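import Mathlib
import Cfsg.Agent.PERM.F3.P1

/-! Coordinates on a three-centralizer of shape `3^(1+6).Q₈³`. -/

set_option autoImplicit false
set_option linter.unusedSectionVars false
set_option synthInstance.maxSize 8192
open Subgroup CL.McL3 CL.MSS CL.C3 QuaternionGroup Equiv Cfsg
open CL.F3 hiding Fr
open CL.Odd hiding e3

namespace CL.E3

variable {G : Type*} [Group G]

variable [Finite G]

/-- the frame -/
structure Fr (z : G) where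
  φ : He →* G
  y : G → V
  M : G → Wr
  inj : Function.Injective φ
  hz : φ ⟨0, 1⟩ = z
  rng : φ.range = QO z
  act : ∀ h ∈ cz z, ∀ q, h * φ q * h⁻¹ = φ (au (y h) (M h) q)
  ker : ∀ h ∈ cz z, M h = 1 → h ∈ QO z
  ebs : ∀ g ∈ Bs, ∃ h ∈ cz z, M h = g

namespace Fr
variable {z : G} (F : Fr z)
include F

theorem φQ (q : He) : F.φ q ∈ QO z := F.rng ▸ ⟨q, rfl⟩
theorem φH (q : He) : F.φ q ∈ cz z := QO_le z (F.φQ q)
theorem exq {g : G} (h : g ∈ QO z) : ∃ q, F.φ q = g := (F.rng.ge h :)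
theorem Q3 {g : G} (h : g ∈ QO z) : g ^ 3 = 1 := by
  obtain ⟨q, rfl⟩ := F.exq h
  rw [← map_pow, He.cube, map_one]
theorem zQ : z ∈ QO z := by simpa only [F.hz] using F.φQ ⟨0, 1⟩
theorem z3 : z ^ 3 = 1 := F.Q3 F.zQ
theorem ne {q : He} (h : q ≠ 1) : F.φ q ≠ 1 := fun e => h (F.inj (e.trans (map_one _).symm))
theorem z1 : z ≠ 1 := F.hz ▸ F.ne (by decide)
theorem ZQ : zpowers z ≤ QO z := zpowers_le.2 F.zQ
theorem cQ : Nat.card (QO z) = 3 ^ 7 := by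
  rw [← F.rng, ← card_He]; exact (Nat.card_congr (MonoidHom.ofInjective F.inj).toEquiv).symm
theorem cZ : Nat.card (zpowers z) = 3 := card_zpowers_three F.z1 F.z3

theorem φZ {q : He} : F.φ q ∈ zpowers z ↔ q.v = 0 := by
  have : ∀ c : Z3, (⟨0, c⟩ : He) = 1 ∨ (⟨0, c⟩ : He) = ⟨0, 1⟩ ∨ (⟨0, c⟩ : He) = (⟨0, 1⟩ : He)⁻¹ := by decide
  have e : F.φ (⟨0, 1⟩ : He)⁻¹ = z⁻¹ := by rw [map_inv, F.hz]
  rw [mem_zpowers_three F.z3, ← e, ← map_one F.φ, F.inj.eq_iff, F.inj.eq_iff,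
    show F.φ q = z ↔ q = ⟨0, 1⟩ from ⟨fun k => F.inj (k.trans F.hz.symm), fun k => k ▸ F.hz⟩]
  exact ⟨by rintro (rfl | rfl | rfl) <;> simp, fun e => (show (⟨0, q.c⟩ : He) = q from He.ext e.symm rfl) ▸ this _⟩

theorem exz {g : G} (h : g ∈ zpowers z) : ∃ c, F.φ ⟨0, c⟩ = g := by
  obtain ⟨q, rfl⟩ := F.exq (F.ZQ h)
  exact ⟨q.c, congrArg _ (He.ext (F.φZ.1 h).symm rfl)⟩

theorem zc {g h : G} (hg : g ∈ zpowers z) (hh : h ∈ cz z) : g * h = h * g := by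
  obtain ⟨k, rfl⟩ := hg
  exact ((show Commute h z from mem_cz'.1 hh).zpow_right k).symm

theorem uniq {h : G} (hh : h ∈ cz z) {y : V} {g : Wr} (e : ∀ q, h * F.φ q * h⁻¹ = F.φ (au y g q)) :
    F.y h = y ∧ F.M h = g := by
  have k : ∀ q, au (F.y h) (F.M h) q = au y g q := fun q => F.inj ((F.act h hh q).symm.trans (e q))
  have k1 : F.M h = g := ext_smul fun v => congrArg He.v (k ⟨v, 0⟩)
  refine ⟨sub_eq_zero.1 (ω_nd fun u => ?_), k1⟩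
  have := congrArg He.c (k ⟨g⁻¹ • u, 0⟩)
  simpa [k1, sub_eq_zero] using this

theorem yM_mul {g h : G} (hg : g ∈ cz z) (hh : h ∈ cz z) :
    F.y (g * h) = F.y g + F.M g • F.y h ∧ F.M (g * h) = F.M g * F.M h := F.uniq (mul_mem hg hh) fun q => by
  rw [show g * h * F.φ q * (g * h)⁻¹ = g * (h * F.φ q * h⁻¹) * g⁻¹ by group, F.act h hh, F.act g hg]
  exact congrArg _ (He.ext (mul_smul _ _ _).symm (by simp [mul_smul]; ring))

theorem y_mul {g h : G} (hg : g ∈ cz z) (hh : h ∈ cz z) : F.y (g * h) = F.y g + F.M g • F.y h :=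
  (F.yM_mul hg hh).1
theorem M_mul {g h : G} (hg : g ∈ cz z) (hh : h ∈ cz z) : F.M (g * h) = F.M g * F.M h :=
  (F.yM_mul hg hh).2
theorem yM_φ (q : He) : F.y (F.φ q) = q.v ∧ F.M (F.φ q) = 1 := F.uniq (F.φH q) fun p => by
  rw [← map_inv, ← map_mul, ← map_mul, He.cj]
@[simp] theorem y_φ (q : He) : F.y (F.φ q) = q.v := (F.yM_φ q).1
@[simp] theorem M_φ (q : He) : F.M (F.φ q) = 1 := (F.yM_φ q).2
@[simp] theorem y_one : F.y 1 = 0 := by simpa using F.y_φ 1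
@[simp] theorem M_one : F.M 1 = 1 := by simpa using F.M_φ 1
theorem M_Q {g : G} (h : g ∈ QO z) : F.M g = 1 := by obtain ⟨q, rfl⟩ := F.exq h; simp
theorem y_Z {g : G} (h : g ∈ zpowers z) : F.y g = 0 := by obtain ⟨c, rfl⟩ := F.exz h; simp

/-- the action on `Q / Z` -/
def Mh : cz z →* Wr := MonoidHom.mk' (fun h => F.M h) fun g h => F.M_mul g.2 h.2

theorem M_inv {h : G} (hh : h ∈ cz z) : F.M h⁻¹ = (F.M h)⁻¹ := map_inv F.Mh ⟨h, hh⟩
theorem M_pow {h : G} (hh : h ∈ cz z) (n : ℕ) : F.M (h ^ n) = F.M h ^ n := map_pow F.Mh ⟨h, hh⟩ n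
theorem y_inv {h : G} (hh : h ∈ cz z) : F.y h⁻¹ = -((F.M h)⁻¹ • F.y h) := by
  have := F.y_mul (inv_mem hh) hh
  rw [inv_mul_cancel, y_one, F.M_inv hh] at this
  exact eq_neg_of_add_eq_zero_left this.symm
theorem M_cj {g h : G} (hg : g ∈ cz z) (hh : h ∈ cz z) : F.M (g * h * g⁻¹) = F.M g * F.M h * (F.M g)⁻¹ := by
  rw [F.M_mul (mul_mem hg hh) (inv_mem hg), F.M_mul hg hh, F.M_inv hg]
theorem y_cj {g h : G} (hg : g ∈ cz z) (hh : h ∈ cz z) :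
    F.y (g * h * g⁻¹) = F.y g + F.M g • F.y h - (F.M g * F.M h * (F.M g)⁻¹) • F.y g := by
  rw [F.y_mul (mul_mem hg hh) (inv_mem hg), F.y_mul hg hh, F.M_mul hg hh, F.y_inv hg, smul_neg, ← mul_smul,
    sub_eq_add_neg]
theorem cjH {g h : G} (hg : g ∈ cz z) (hh : h ∈ cz z) : g * h * g⁻¹ ∈ cz z :=
  mul_mem (mul_mem hg hh) (inv_mem hg)
theorem M_cjφ (q : He) {h : G} (hh : h ∈ cz z) : F.M (F.φ q * h * (F.φ q)⁻¹) = F.M h := by
  simp [F.M_cj (F.φH q) hh]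
theorem y_cjφ (q : He) {h : G} (hh : h ∈ cz z) : F.y (F.φ q * h * (F.φ q)⁻¹) = q.v + F.y h - F.M h • q.v := by
  simp [F.y_cj (F.φH q) hh]

theorem memZ {h : G} (hh : h ∈ cz z) (h1 : F.M h = 1) (h2 : F.y h = 0) : h ∈ zpowers z := by
  obtain ⟨q, rfl⟩ := F.exq (F.ker h hh h1)
  exact F.φZ.2 (by simpa using h2)

theorem divZ {g h : G} (hg : g ∈ cz z) (hh : h ∈ cz z) (h1 : F.M g = F.M h) (h2 : F.y g = F.y h) :
    g * h⁻¹ ∈ zpowers z := F.memZ (mul_mem hg (inv_mem hh))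
  (by rw [F.M_mul hg (inv_mem hh), F.M_inv hh, h1, mul_inv_cancel])
  (by rw [F.y_mul hg (inv_mem hh), F.y_inv hh, h1, h2]; simp)

theorem comm_φ {h : G} (hh : h ∈ cz z) {q : He} :
    F.φ q ∈ cz h ↔ F.M h • q.v = q.v ∧ ω (F.y h) q.v = 0 := by
  rw [mem_cz_comm, mem_cz, F.act h hh, F.inj.eq_iff, He.ext_iff]
  exact and_congr_right fun e => by simp [show F.M h • q.v = q.v from e]

theorem comm_φφ {p q : He} : F.φ q ∈ cz (F.φ p) ↔ ω p.v q.v = 0 := by simp [F.comm_φ (F.φH p)]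

theorem Z3' {g : G} (h : g ∈ zpowers z) : g ^ 3 = 1 := F.Q3 (F.ZQ h)

theorem comm_of {h t : G} (hh : h ∈ cz z) (ht : t ∈ cz z) {n : ℕ} (tn : t ^ n = 1) (hn : n.Coprime 3)
    (h1 : F.M h * F.M t = F.M t * F.M h) (h2 : F.y h + F.M h • F.y t = F.y t + F.M t • F.y h) : h ∈ cz t := by
  have := F.divZ (mul_mem hh ht) (mul_mem ht hh) (by rw [F.M_mul hh ht, F.M_mul ht hh, h1])
    (by rw [F.y_mul hh ht, F.y_mul ht hh, h2])
  exact comm_of_cop' (ζ := h * t * (t * h)⁻¹) (by group) (F.zc this ht) (F.Z3' this) tn hn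

theorem eq_of {g h : G} (hg : g ∈ cz z) (hh : h ∈ cz z) {n : ℕ} (gn : g ^ n = 1) (hn : h ^ n = 1)
    (c : n.Coprime 3) (h1 : F.M g = F.M h) (h2 : F.y g = F.y h) : g = h := by
  have k := F.divZ hg hh h1 h2
  have e : (g * h⁻¹) ^ n = 1 := by
    have := congrArg (· ^ n) (inv_mul_cancel_right g h)
    simpa only [(show Commute _ h from F.zc k hh).mul_pow, gn, hn, mul_one] using this
  exact mul_inv_eq_one.1 (eq_one_of_cop e (F.Z3' k) c)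

/-- the image of the centralizer -/
def Hb : Subgroup Wr := F.Mh.range

theorem mem_Hb {g : Wr} : g ∈ F.Hb ↔ ∃ h ∈ cz z, F.M h = g := ⟨fun ⟨h, e⟩ => ⟨h, h.2, e⟩, fun ⟨h, k, e⟩ => ⟨⟨h, k⟩, e⟩⟩
theorem M_mem {h : G} (hh : h ∈ cz z) : F.M h ∈ F.Hb := ⟨⟨h, hh⟩, rfl⟩

theorem lift {g : Wr} (hg : g ∈ F.Hb) : ∃ h ∈ cz z, F.M h = g ∧ F.y h = 0 := by
  obtain ⟨h, hh, rfl⟩ := F.mem_Hb.1 hg
  exact ⟨F.φ ⟨-F.y h, 0⟩ * h, mul_mem (F.φH _) hh, by simp [F.M_mul (F.φH _) hh], by simp [F.y_mul (F.φH _) hh]⟩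

theorem y_pow {h : G} (hh : h ∈ cz z) (h0 : F.y h = 0) (n : ℕ) : F.y (h ^ n) = 0 := by
  induction n with
  | zero => simp
  | succ n ih => rw [pow_succ, F.y_mul (pow_mem hh n) hh, ih, h0]; simp

theorem lift2 {g : Wr} (hg : g ∈ F.Hb) (h4 : g ^ 4 = 1) :
    ∃ h ∈ cz z, F.M h = g ∧ F.y h = 0 ∧ h ^ 4 = 1 ∧ (g * g = 1 → h * h = 1) := by
  obtain ⟨h, hh, rfl, h0⟩ := F.lift hg
  have k : ∀ n, F.M h ^ n = 1 → (h ^ 9) ^ n = 1 := fun n e => by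
    rw [← pow_mul, show 9 * n = n * 3 * 3 by ring, pow_mul, pow_mul, F.Z3' (F.memZ (pow_mem hh n)
      (by rw [F.M_pow hh, e]) (F.y_pow hh h0 n)), one_pow]
  exact ⟨h ^ 9, pow_mem hh _, by rw [F.M_pow hh, show 9 = 4 * 2 + 1 from rfl, pow_succ, pow_mul, h4]; simp,
    F.y_pow hh h0 _, k 4 h4, fun e => (pow_two _).symm.trans (k 2 ((pow_two _).trans e))⟩

theorem exr (i : Fin 3) : ∃ r ∈ cz z, F.M r = fl i ∧ F.y r = 0 ∧ r * r = 1 := by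
  obtain ⟨r, h1, h2, h3, -, h4⟩ := F.lift2 (F.mem_Hb.2 (F.ebs (fl i) (bs_mem _))) (by revert i; decide +kernel)
  exact ⟨r, h1, h2, h3, h4 (fl_sq i)⟩

/-- the involutions inverting one factor -/
noncomputable def r (i : Fin 3) : G := (F.exr i).choose

theorem rH (i : Fin 3) : F.r i ∈ cz z := (F.exr i).choose_spec.1
@[simp] theorem M_r (i : Fin 3) : F.M (F.r i) = fl i := (F.exr i).choose_spec.2.1
@[simp] theorem y_r (i : Fin 3) : F.y (F.r i) = 0 := (F.exr i).choose_spec.2.2.1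
theorem r2 (i : Fin 3) : F.r i * F.r i = 1 := (F.exr i).choose_spec.2.2.2
theorem r_inv (i : Fin 3) : (F.r i)⁻¹ = F.r i := inv_eq_of_mul_eq_one_right (F.r2 i)
theorem r1 (i : Fin 3) : F.r i ≠ 1 := fun e => by
  have := F.M_r i
  rw [e, M_one] at this
  clear e; revert i; decide +kernel

theorem comm_r {h : G} (hh : h ∈ cz z) {i : Fin 3} : h ∈ cz (F.r i) ↔ (F.M h).π i = i ∧ F.y h i = 0 := by
  have k : ∀ i j, fl i = fl j → i = j := by decide +kernel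
  have k2 : ∀ p : P2, p = -p ↔ p = 0 := by decide
  constructor
  · intro e
    have h1 := F.M_cj hh (F.rH i)
    have h2 := congrFun (F.y_mul hh (F.rH i)) i
    rw [mem_cz.1 e, M_r, cj_fl] at h1
    rw [mem_cz'.1 e, F.y_mul (F.rH i) hh] at h2
    exact ⟨(k _ _ h1).symm, by simpa [fl_smul, eq_comm, k2] using h2⟩
  · rintro ⟨h1, h2⟩
    refine F.comm_of hh (F.rH i) ((pow_two _).trans (F.r2 i)) (by decide) ?_ (funext fun j => ?_)
    · rw [M_r, ← mul_inv_eq_iff_eq_mul, cj_fl, h1]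
    · by_cases e : j = i <;> simp [fl_smul, e, h2]

theorem rr (i j : Fin 3) : F.r i ∈ cz (F.r j) := (F.comm_r (F.rH i)).2 ⟨by simp [fl, bs], by simp⟩

theorem cj_r {h : G} (hh : h ∈ cz z) (h0 : F.y h = 0) (i : Fin 3) : h * F.r i * h⁻¹ = F.r ((F.M h).π i) :=
  F.eq_of (n := 2) (F.cjH hh (F.rH i)) (F.rH _) (by rw [conj_pow, pow_two, r2]; simp) ((pow_two _).trans (F.r2 _))
    (by decide) (by simp [F.M_cj hh (F.rH i), cj_fl]) (by simp [F.y_cj hh (F.rH i), h0])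

/-- conjugating a frame -/
def cj (g : G) : Fr (g * z * g⁻¹) where
  φ := (MulAut.conj g).toMonoidHom.comp F.φ
  y h := F.y (g⁻¹ * h * g)
  M h := F.M (g⁻¹ * h * g)
  inj := (MulAut.conj g).injective.comp F.inj
  hz := congrArg (fun x => g * x * g⁻¹) F.hz
  rng := by rw [QO_cj, ← F.rng, MonoidHom.range_comp]
  act h hh q := by
    rw [cz_cj, mem_cj] at hh
    show h * (g * F.φ q * g⁻¹) * h⁻¹ = g * F.φ _ * g⁻¹
    rw [← F.act _ hh]; group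
  ker h hh e := by
    rw [cz_cj, mem_cj] at hh
    rw [QO_cj, mem_cj]; exact F.ker _ hh e
  ebs x hx := let ⟨h, hh, e⟩ := F.ebs x hx; ⟨_, conj_mem_cz g hh, by simpa [mul_assoc] using e⟩

/-- changing the basis -/
def rb (g : Wr) : Fr z where
  φ := F.φ.comp (MonoidHom.mk' (fun q => ⟨g⁻¹ • q.v, q.c⟩) fun p q => He.ext (smul_add ..) (by simp))
  y h := g • F.y h
  M h := g * F.M h * g⁻¹
  inj := F.inj.comp fun p q e => He.ext (by simpa using congrArg He.v e) (congrArg He.c e :)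
  hz := (congrArg F.φ (He.ext (smul_zero _) rfl)).trans F.hz
  rng := by
    rw [← F.rng]
    exact le_antisymm (by rintro _ ⟨q, rfl⟩; exact ⟨_, rfl⟩) (by
      rintro _ ⟨q, rfl⟩; exact ⟨⟨g • q.v, q.c⟩, congrArg F.φ (He.ext (inv_smul_smul ..) rfl)⟩)
  act h hh q := (F.act h hh _).trans (congrArg F.φ (He.ext (by simp [mul_smul]) (by simp [mul_smul])))
  ker h hh e := F.ker h hh (by simpa using e)
  ebs x hx := let ⟨h, hh, e⟩ := F.ebs _ (Normal.conj_mem inferInstance x hx g⁻¹); ⟨h, hh, by rw [e]; group⟩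

theorem rb_φ (g : Wr) (q : He) : (F.rb g).φ q = F.φ ⟨g⁻¹ • q.v, q.c⟩ := rfl
theorem rb_M (g : Wr) (h : G) : (F.rb g).M h = g * F.M h * g⁻¹ := rfl
theorem rb_y (g : Wr) (h : G) : (F.rb g).y h = g • F.y h := rfl

/-- images of subgroups -/
def im (S : Subgroup G) : Subgroup Wr := (S.subgroupOf (cz z)).map F.Mh

theorem mem_im {S : Subgroup G} (hS : S ≤ cz z) {g : Wr} : g ∈ F.im S ↔ ∃ h ∈ S, F.M h = g :=
  ⟨fun ⟨h, k, e⟩ => ⟨h, k, e⟩, fun ⟨h, k, e⟩ => ⟨⟨h, hS k⟩, k, e⟩⟩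
theorem im_le (S : Subgroup G) : F.im S ≤ F.Hb := map_le_range _ _
theorem p_im {p : ℕ} {S : Subgroup G} (h : IsPGroup p S) : IsPGroup p (F.im S) := (isPGroup_subgroupOf h _).map _

theorem card_im {S : Subgroup G} (hS : S ≤ cz z) :
    Nat.card S = Nat.card (F.im S) * Nat.card (S ⊓ QO z : Subgroup G) := by
  let f : S →* Wr := F.Mh.comp (inclusion hS)
  have h1 : f.range = F.im S := ext fun g => by
    rw [F.mem_im hS]; exact ⟨fun ⟨x, e⟩ => ⟨x, x.2, e⟩, fun ⟨x, k, e⟩ => ⟨⟨x, k⟩, e⟩⟩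
  have h2 : f.ker = (QO z).subgroupOf S := ext fun x => ⟨F.ker _ (hS x.2), F.M_Q⟩
  rw [← h1, card_ker f h2]

theorem norm {S : Subgroup G} (hS : S ≤ cz z) (h : IsPGroup 3 S) : ∃ g, ∀ x ∈ S, (F.rb g).M x ∈ Un := by
  obtain ⟨g, -, e⟩ := syl_Un.exists_conj_le (F.p_im h) le_top
  exact ⟨g, fun x hx => e (conj_mem_cj ((F.mem_im hS).2 ⟨x, hx, rfl⟩))⟩

/-- images of subgroups of `Q` -/
def bar (A : Subgroup G) : AddSubgroup V where
  carrier := {v | ∃ c, F.φ ⟨v, c⟩ ∈ A}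
  zero_mem' := ⟨0, (show F.φ 1 ∈ A by simp)⟩
  add_mem' := fun ⟨_, h⟩ ⟨_, k⟩ => ⟨_, (map_mul F.φ _ _ ▸ mul_mem h k :)⟩
  neg_mem' := fun ⟨_, h⟩ => ⟨_, (map_inv F.φ _ ▸ inv_mem h :)⟩

theorem mem_bar {A : Subgroup G} {v : V} : v ∈ F.bar A ↔ ∃ c, F.φ ⟨v, c⟩ ∈ A := Iff.rfl

theorem card_bar {A : Subgroup G} (hA : A ≤ QO z) :
    Nat.card A = Nat.card (F.bar A) * Nat.card (A ⊓ zpowers z : Subgroup G) := by
  let f : A →* Multiplicative V := MonoidHom.mk' (fun x => .ofAdd (F.y x)) fun x y => by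
    simp [F.y_mul (QO_le z (hA x.2)) (QO_le z (hA y.2)), F.M_Q (hA x.2)]
  have h1 : f.range = (F.bar A).toSubgroup := ext fun g => ⟨fun ⟨x, e⟩ => by
      obtain ⟨q, k⟩ := F.exq (hA x.2)
      exact ⟨q.c, by rw [← e]; simp [f, ← k]; exact k ▸ x.2⟩, fun ⟨c, k⟩ => ⟨⟨_, k⟩, by simp [f]⟩⟩
  have h2 : f.ker = (zpowers z).subgroupOf A := ext fun x =>
    ⟨fun e => F.memZ (QO_le z (hA x.2)) (F.M_Q (hA x.2)) e, fun e => congrArg Multiplicative.ofAdd (F.y_Z e)⟩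
  rw [card_ker f h2, h1]; rfl

theorem iso_bar {A : Subgroup G} (h : ∀ a ∈ A, A ≤ cz a) : ∀ u ∈ F.bar A, ∀ v ∈ F.bar A, ω u v = 0 :=
  fun _ ⟨_, hu⟩ _ ⟨_, hv⟩ => (F.comm_φφ.1 (h _ hu hv) :)

theorem ab81 {A : Subgroup G} (hA : A ≤ QO z) (h : ∀ a ∈ A, A ≤ cz a) :
    Nat.card A ≤ 27 * Nat.card (A ⊓ zpowers z : Subgroup G) :=
  (F.card_bar hA).le.trans (Nat.mul_le_mul_right _ (iso27 (F.iso_bar h)))

variable {x : G}

theorem exF (e : IsConj z x) : Nonempty (Fr x) := by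
  obtain ⟨g, rfl⟩ := isConj_iff.1 e; exact ⟨F.cj g⟩
theorem x3 (e : IsConj z x) : x ^ 3 = 1 := (F.exF e).some.z3
theorem xQ (e : IsConj z x) : x ∈ QO x := (F.exF e).some.zQ

theorem symm (p : Pair z x) : Pair x z := ⟨p.cj.symm, mem_cz_comm.1 p.cm, fun e => p.nz (by
  rcases (mem_zpowers_three (F.x3 p.cj)).1 e with e | e | e
  exacts [(F.z1 e).elim, e ▸ mem_zpowers _, by rw [e, zpowers_inv]; exact mem_zpowers _])⟩

theorem c0 (h : z ∉ QO x) {c : Z3} (e : F.φ ⟨0, c⟩ ∈ QO x) : c = 0 := by_contra fun n => h (by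
  have : ∀ c : Z3, c ≠ 0 → (⟨0, 1⟩ : He) = ⟨0, c⟩ ∨ (⟨0, 1⟩ : He) = (⟨0, c⟩ : He)⁻¹ := by decide
  rcases this c n with k | k <;> have := F.hz <;> rw [k] at this <;> rw [← this]
  exacts [e, map_inv F.φ _ ▸ inv_mem e])

theorem EZ (h : z ∉ QO x) : (QO z ⊓ QO x) ⊓ zpowers z = ⊥ := eq_bot_iff.2 fun g hg => by
  obtain ⟨c, rfl⟩ := F.exz hg.2
  rw [F.c0 h hg.1.2]; exact map_one F.φ

/-- the central inversion -/
noncomputable def w : G := F.r 0 * F.r 1 * F.r 2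

theorem wH : F.w ∈ cz z := mul_mem (mul_mem (F.rH _) (F.rH _)) (F.rH _)
theorem M_w : F.M F.w = m1 := by simp [w, F.M_mul, mul_mem, F.rH, m1]
theorem y_w : F.y F.w = 0 := by simp [w, F.y_mul, mul_mem, F.rH]
theorem w2' : F.w * F.w = 1 := by
  have c : ∀ i j, Commute (F.r i) (F.r j) := fun i j => mem_cz'.1 (F.rr i j)
  rw [w, ((c 0 2).mul_left (c 1 2)).symm.mul_mul_mul_comm, (c 1 0).mul_mul_mul_comm, r2, r2, r2]; simp
theorem comm_w {h : G} (hh : h ∈ cz z) : h ∈ cz F.w ↔ F.y h = 0 := by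
  refine ⟨fun e => ?_, fun e => F.comm_of hh F.wH ((pow_two _).trans F.w2') (by decide) (by rw [M_w, m1_comm])
    (by simp [e, y_w])⟩
  have h2 := F.y_mul hh F.wH
  rw [mem_cz'.1 e, F.y_mul F.wH hh, y_w, M_w, m1_smul] at h2
  exact funext fun j => (show ∀ p : P2, -p = p → p = 0 by decide) _ (by simpa using congrFun h2 j)
theorem act_w (q : He) : F.w * F.φ q * F.w⁻¹ = F.φ ⟨-q.v, q.c⟩ := by
  rw [F.act _ F.wH, M_w, y_w]; exact congrArg _ (He.ext (m1_smul _) (by simp))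
theorem act0 {h : G} (hh : h ∈ cz z) (h0 : F.y h = 0) (q : He) : h * F.φ q * h⁻¹ = F.φ ⟨F.M h • q.v, q.c⟩ := by
  rw [F.act _ hh, h0]; exact congrArg _ (He.ext rfl (by simp))

theorem c0' (h : z ∉ QO x) (hx : x ∈ cz z) (h0 : F.y x = 0) {q : He} (e : F.φ q ∈ QO x) : q.c = 0 := by
  have := mul_mem e (QO_conj (mem_cz_comm.1 ((F.comm_w hx).2 h0)) e)
  rw [act_w, ← map_mul, show q * ⟨-q.v, q.c⟩ = ⟨0, q.c + q.c⟩ from He.ext (by simp) (by simp)] at this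
  exact (show ∀ c : Z3, c + c = 0 → c = 0 by decide) _ (F.c0 h this)

theorem cmt (hx : x ∈ cz z) (v : V) : F.φ ⟨v, 0⟩ * x * (F.φ ⟨v, 0⟩)⁻¹ =
    F.φ ⟨v - F.M x • v, ω v (F.M x • v) - ω (F.y x) (F.M x • v)⟩ * x := by
  rw [← mul_inv_eq_iff_eq_mul, ← map_inv, mul_assoc, mul_assoc, ← mul_assoc x, F.act x hx, ← map_mul]
  refine congrArg _ (He.ext (by simp [sub_eq_add_neg]) ?_)
  simp
  generalize ω v _ = a; generalize ω (F.y x) _ = b; revert a b; decide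

theorem DE0 (h : z ∉ QO x) {p q : He} (hp : F.φ p ∈ cz x) (hq : F.φ q ∈ QO x) : ω p.v q.v = 0 := by
  have := mul_mem (QO_conj hp hq) (inv_mem hq)
  rw [← map_inv, ← map_inv, ← map_mul, ← map_mul, ← map_mul, He.cj,
    show au p.v 1 q * q⁻¹ = ⟨0, ω p.v q.v⟩ from He.ext (by simp) (by simp)] at this
  exact F.c0 h this

theorem bsH {g : Wr} (hg : g ∈ Bs) : g ∈ F.Hb := F.mem_Hb.2 (F.ebs g hg)

theorem exρ (b : Fin 3 → Q8) : ∃ h ∈ cz z, F.M h = bs b ∧ F.y h = 0 ∧ h ^ 4 = 1 := by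
  have : ∀ x : Q8, x * (x * (x * x)) = 1 := by decide +kernel
  obtain ⟨h, h1, h2, h3, h4, -⟩ := F.lift2 (F.bsH (bs_mem b)) (by
    rw [pow_succ', pow_three, ← bs_mul, ← bs_mul, ← bs_mul]; exact congrArg bs (funext fun j => this _))
  exact ⟨h, h1, h2, h3, h4⟩

/-- the complement `Q₈³` -/
noncomputable def R : (Fin 3 → Q8) →* G := MonoidHom.mk' (fun b => (F.exρ b).choose) fun b c => by
  obtain ⟨h1, h2, h3, h4⟩ := (F.exρ b).choose_spec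
  obtain ⟨k1, k2, k3, k4⟩ := (F.exρ c).choose_spec
  obtain ⟨l1, l2, l3, l4⟩ := (F.exρ (b * c)).choose_spec
  generalize (F.exρ b).choose = h at *
  generalize (F.exρ c).choose = k at *
  have q : ∀ x y : Q8, x * y * x⁻¹ * y⁻¹ * (x * y * x⁻¹ * y⁻¹) = 1 ∧ x * (x * y * x⁻¹ * y⁻¹) = x * y * x⁻¹ * y⁻¹ * x ∧
    y * (x * y * x⁻¹ * y⁻¹) = x * y * x⁻¹ * y⁻¹ * y := by decide +kernel
  have q2 : bs (b * c * b⁻¹ * c⁻¹) * bs (b * c * b⁻¹ * c⁻¹) = 1 :=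
    (bs_mul _ _).symm.trans (congrArg bs (funext fun j => (q _ _).1))
  obtain ⟨e, e1, e2, e3, e4, e5⟩ := F.lift2 (F.bsH (bs_mem (b * c * b⁻¹ * c⁻¹))) (by
    rw [show 4 = 2 * 2 from rfl, pow_mul, pow_two (bs _), q2, one_pow])
  have c1 : Commute h e := mem_cz'.1 (F.comm_of h1 e1 e4 (by decide) (by
    rw [h2, e2, ← bs_mul, ← bs_mul]; exact congrArg bs (funext fun j => (q _ _).2.1)) (by simp [h3, e3]))
  have c2 : Commute k e := mem_cz'.1 (F.comm_of k1 e1 e4 (by decide) (by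
    rw [k2, e2, ← bs_mul, ← bs_mul]; exact congrArg bs (funext fun j => (q _ _).2.2)) (by simp [k3, e3]))
  have c3 : h * k * h⁻¹ = e * k := F.eq_of (n := 4) (F.cjH h1 k1) (mul_mem e1 k1) (by rw [conj_pow, k4]; simp)
    (by rw [c2.symm.mul_pow, e4, k4, mul_one]) (by decide)
    (by rw [F.M_cj h1 k1, F.M_mul e1 k1, h2, k2, e2, bs_inv, ← bs_mul, ← bs_mul, ← bs_mul]; simp)
    (by simp [F.y_cj h1 k1, F.y_mul e1 k1, h3, k3, e3])
  have c4 : k * h = e * (h * k) := by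
    rw [mul_inv_eq_iff_eq_mul.1 c3, ← mul_assoc, ← mul_assoc, e5 q2, one_mul]
  have c5 : (h * k) ^ 2 = e * (h ^ 2 * k ^ 2) := by
    rw [pow_two, mul_assoc, ← mul_assoc k, c4, ← mul_assoc, ← mul_assoc, c1.eq]; simp [pow_two, mul_assoc]
  have c6 : Commute (h ^ 2) k := by
    rw [commute_iff_eq, pow_two, ← mul_assoc, c4, mul_assoc e, mul_assoc h k, c4, ← mul_assoc h e, c1.eq,
      mul_assoc e, ← mul_assoc e e, e5 q2]; simp [mul_assoc]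
  refine F.eq_of (n := 4) l1 (mul_mem h1 k1) l4 ?_ (by decide) (by rw [l2, F.M_mul h1 k1, h2, k2, bs_mul])
    (by simp [l3, F.y_mul h1 k1, h3, k3])
  rw [show 4 = 2 * 2 from rfl, pow_mul, c5, ((c1.pow_left 2).mul_left (c2.pow_left 2)).symm.mul_pow,
    (c6.pow_right 2).mul_pow, ← pow_mul, ← pow_mul, h4, k4, pow_two, e5 q2]; simp

theorem RH (b : Fin 3 → Q8) : F.R b ∈ cz z := (F.exρ b).choose_spec.1
@[simp] theorem M_R (b : Fin 3 → Q8) : F.M (F.R b) = bs b := (F.exρ b).choose_spec.2.1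
@[simp] theorem y_R (b : Fin 3 → Q8) : F.y (F.R b) = 0 := (F.exρ b).choose_spec.2.2.1
theorem R4 (b : Fin 3 → Q8) : F.R b ^ 4 = 1 := (F.exρ b).choose_spec.2.2.2
theorem R_inj : Function.Injective F.R := fun _ _ e => bs_inj (by rw [← F.M_R, e, M_R])
theorem R_r (i : Fin 3) : F.R (Pi.mulSingle i (a 2)) = F.r i :=
  F.eq_of (n := 4) (F.RH _) (F.rH i) (F.R4 _) (by rw [show 4 = 2 * 2 from rfl, pow_mul, pow_two (F.r i), r2, one_pow])
    (by decide) (by simp [fl]) (by simp)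
theorem comm_R {h : G} (hh : h ∈ cz z) {b : Fin 3 → Q8} (h1 : F.M h * bs b = bs b * F.M h)
    (h2 : bs b • F.y h = F.y h) : h ∈ cz (F.R b) :=
  F.comm_of hh (F.RH b) (F.R4 b) (by decide) (by simpa using h1) (by simp [h2])
theorem cj_R {h : G} (hh : h ∈ cz z) {b c : Fin 3 → Q8} (h1 : F.M h * bs b * (F.M h)⁻¹ = bs c)
    (h2 : bs c • F.y h = F.y h) : h * F.R b * h⁻¹ = F.R c :=
  F.eq_of (n := 4) (F.cjH hh (F.RH b)) (F.RH c) (by rw [conj_pow, R4]; simp) (F.R4 c) (by decide)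
    (by simp [F.M_cj hh (F.RH b), h1]) (by simp [F.y_cj hh (F.RH b), h1, h2])

/-- the section `V → Q` -/
abbrev e (v : V) : G := F.φ ⟨v, 0⟩

end Fr

end CL.E3
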