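import Cfsg.Agent.PERM.E3.RCh

/-!
Copy of `SPOR/E6U/Geo` for an index dividing six.
Opposite pairs in the class of the central involution when `C(d) / Q d` has socle `U₆(2)`.
-/

set_option autoImplicit false
set_option maxRecDepth 100000
set_option exponentiation.threshold 512
set_option linter.unusedSectionVars false

namespace CL.E6U.V6

open CL.LE CL.LX CL.MSS CL.TTU CL.TTU.U6 CL.FiRec CL.PM CL.F2M CL.D42 QuadraticMap
open CL.K hiding lall lall_iff lany lany_iff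

attribute [local irreducible] mu ac MT I20 M JN ol inO

variable {X : Type*} [Group X] {E : Set X} {t : ℕ → X} {ϱ : X →* (V ≃ₗ[ZMod 2] V)}
  {q : QuadraticForm (ZMod 2) V} {G : Type*} [Group G] {D : Set G} {Q H : G → Subgroup G}
  {d x y z w u a s : G} {κ : G → V} {p : G → X}

variable [Finite G]

namespace Ch

variable (C : Ch ϱ q Q H d κ p) (S : St E t ϱ q D Q H)
include C S

theorem swap (hd : d ∈ D) : ∃ κ' p', Ch ϱ q Q H d κ' p' ∧ (∀ a ∈ Q d, κ' a = ϱ (wd t g0) (κ a)) ∧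
    ∀ c ∈ H d, p c = wd t g0 * p' c * (wd t g0)⁻¹ := by
  obtain ⟨κ', p', C', h1, h2⟩ := C.re S hd (wd t g0)
  exact ⟨κ', p', C', fun a ha => by rw [h1 a ha, S.md.g0_sq], h2⟩

theorem mem_iff' (n : NW D Q d y) (e : κ y = vd 524288) (ha : a ∈ Q d) :
    a ∈ Q y ↔ ϱ (wd t g0) (κ a) ∈ F 10 := by
  obtain ⟨κ', p', C', h1, -⟩ := C.swap S n.zD
  rw [C'.mem_iff S n (by rw [h1 y n.mem, e, ← S.md.g0_one, S.md.g0_sq]) ha, h1 a ha]

theorem mid (n : NW D Q d x) (e : κ x = vd 1) (n' : NW D Q d y) (c : y * x = x * y) (m : y ∉ Q x) :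
    ∃ c < 2 ^ 20, κ y = vd c ∧ c / 2 ^ 10 ∈ CS ∧ ¬ Ob ϱ (vd c + vd 1) := by
  obtain ⟨c, hc, e1⟩ := exists_vd (κ y)
  obtain ⟨i, hi, rfl⟩ := S.md.inO_of hc (e1 ▸ C.ob S n')
  have := (ol_spec hi).2.2.2.2 (not_lt.1 fun k => m ((C.mem_iff S n e n'.mem).2 (e1 ▸ vd_mem k)))
    (lt_of_mem hc (m := 19) (by decide) (e1 ▸ (C.com_iff S n e n'.mem).1 c))
  refine ⟨_, hc, e1, this.2, fun o => this.1 ?_⟩
  rw [← vd_xor] at o
  obtain ⟨j, hj, k⟩ := S.md.inO_of (Nat.xor_lt_two_pow hc (by decide)) o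
  exact k ▸ allLt_iff.1 chk_inO j hj

theorem mem_of_comm (n : NW D Q d x) (e : κ x = vd 1) (ha : a ∈ Q d)
    (h : ∀ b ∈ Q d, b ∈ Q x → a * b = b * a) : a ∈ Q x :=
  (C.mem_iff S n e ha).2 (S.md.perp10 C.hq C.nd fun v hv => by
    obtain ⟨b, hb, rfl⟩ := C.κ_surj v
    exact (C.comm_iff ha hb).1 (h b hb ((C.mem_iff S n e hb).2 hv)))

end Ch

namespace St

variable (S : St E t ϱ q D Q H)
include S

theorem std (n : NW D Q d x) : ∃ κ p, Ch ϱ q Q H d κ p ∧ κ x = vd 1 := by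
  obtain ⟨κ, p, C⟩ := S.ch n.zD
  obtain ⟨κ, p, -, C, e, -⟩ := C.std S n
  exact ⟨κ, p, C, e⟩

theorem std2 (n : NW D Q d x) (n' : NW D Q d y) (c : y * x ≠ x * y) :
    ∃ κ p, Ch ϱ q Q H d κ p ∧ κ x = vd 1 ∧ κ y = vd 524288 := by
  obtain ⟨κ, p, C, e⟩ := S.std n
  obtain ⟨κ, p, -, C, e, e', -⟩ := C.std2 S n e n' c
  exact ⟨κ, p, C, e, e'⟩

theorem exists_nc (n : NW D Q d x) : ∃ w, NW D Q d w ∧ w * x ≠ x * w := by
  obtain ⟨κ, p, C, e⟩ := S.std n
  obtain ⟨w, hw, k⟩ := C.κ_surj (vd 524288)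
  exact ⟨w, C.nw_of_ob S n hw ⟨_, k.trans S.md.g0_one.symm⟩, fun c =>
    absurd (lt_of_mem (by decide) (by decide) (k ▸ (C.com_iff S n e hw).1 c)) (by decide)⟩

theorem disj (n : NW D Q d x) (n' : NW D Q d y) (c : y * x ≠ x * y) (a1 : a ∈ Q d) (a2 : a ∈ Q x)
    (a3 : a ∈ Q y) : a = 1 ∨ a = d := by
  obtain ⟨κ, p, C, e, e'⟩ := S.std2 n n' c
  obtain ⟨b, hb, k⟩ := (C.mem_iff S n e a1).1 a2
  have := (C.mem_iff' S n' e' a1).1 a3
  rw [k, S.md.wa chk_g0.2.1] at this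
  rw [← C.κ_zero a1, k]
  rcases ou_iff.1 (an_iff.1 (allLt_iff.1 chk_g0.2.2.2.1 b hb)).1 with h | h
  · rw [beq_iff.1 h, vd_zero]
  · exact absurd (lt_of_mem (show wa MT g0 b < _ from ac_lt _ _) (by decide) this) (not_lt.2 (ble_iff.1 h))

theorem split (n : NW D Q d x) (n' : NW D Q d y) (c : y * x ≠ x * y) (hs : s ∈ Q d) :
    ∃ e ∈ Q d, e ∈ Q x ∧ ∃ f ∈ Q d, f ∈ Q y ∧ s = e * f := by
  obtain ⟨κ, p, C, e, e'⟩ := S.std2 n n' c
  obtain ⟨b, hb, k⟩ := exists_vd (κ s)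
  obtain ⟨a, ha, k'⟩ := C.κ_surj (vd (b % 2 ^ 10))
  have m := mul_mem (inv_mem ha) hs
  refine ⟨a, ha, (C.mem_iff S n e ha).2 (k' ▸ vd_mem (Nat.mod_lt _ (by norm_num))), _, m,
    (C.mem_iff' S n' e' m).2 ?_, (mul_inv_cancel_left ..).symm⟩
  rw [C.κ_mul (inv_mem ha) hs, C.κ_inv ha, k, k', vd_split b 10, add_comm, add_assoc, v2_add_self,
    add_zero, S.md.wa chk_g0.2.1]
  exact vd_mem (blt_iff.1 (an_iff.1 (allLt_iff.1 chk_g0.2.2.2.1 (b / 2 ^ 10) (by omega))).2)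

theorem cent_of (n : NW D Q d x) (ha : a ∈ Q d) (h : ∀ y, NW D Q d y → a * y = y * a) : a = 1 ∨ a = d := by
  obtain ⟨κ, p, C⟩ := S.ch n.zD
  refine (C.κ_zero ha).1 (C.nd _ fun w => F_le (S := LinearMap.ker (polarBilin q (κ a))) (fun j hj => ?_) (mem_F20 w))
  obtain ⟨b, hb, e⟩ := C.κ_surj (vd (2 ^ j))
  have c := an_iff.1 (allLt_iff.1 chk_G.2.2.2.2 j hj)
  exact e ▸ (C.comm_iff ha hb).1 (h b (C.nw_of_ob S n hb ⟨_, by rw [e, S.md.wa c.1, beq_iff.1 c.2]⟩))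

theorem Q_le_of (n : NW D Q d x) {K : Subgroup G} (h : ∀ y, NW D Q d y → y ∈ K ∨ y * d ∈ K) : Q d ≤ K := by
  have L := S.toLF
  have k3 : d ∈ K := by
    have k : ∀ x, NW D Q d x → x ∈ K → d ∈ K := fun x n hx => by
      obtain ⟨y, n', c⟩ := S.exists_nc n
      have k : ∀ y ∈ K, y ∈ Q d → y * x ≠ x * y → d ∈ K := fun y y1 y2 c =>
        (mul_mem_cancel_left hx).1 (L.nw_conj_of_not_comm n y2 c ▸ mul_mem (mul_mem y1 hx) (inv_mem y1))
      rcases h y n' with e | e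
      · exact k y e n'.mem c
      · exact k _ e (L.nw_third n').mem fun e => c (by
          rwa [mul_assoc, ← L.nw_comm n, ← mul_assoc, ← mul_assoc, mul_left_inj] at e)
    exact (h x n).elim (k x n) (k _ (L.nw_third n))
  refine fun y hy => by_contra fun hn => ?_
  have l := L.lx n.zD
  obtain ⟨w, hw, w1, w2⟩ := l.toES.exists_centralizes_not_comm (K := K ⊓ Q d) inf_le_right
    ⟨k3, l.z_mem⟩ hy fun e => hn e.1
  rcases S.cent_of n hw fun y n => (w1 y ⟨(h y n).elim id (mul_mem_cancel_right k3).1, n.mem⟩).symm with rfl | rfl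
  exacts [w2 (by simp), w2 (l.z_comm y hy)]

theorem not_mem (n : NW D Q x d) (n' : NW D Q x y) (c : y * d = d * y) (m : y ∉ Q d) : y * d ∉ D := fun h => by
  obtain ⟨κ, p, C, e⟩ := S.std n
  obtain ⟨b, -, k, -, o⟩ := C.mid S n e n' c m
  refine o (k ▸ e ▸ C.κ_mul n'.mem n.mem ▸ C.ob S ⟨n.zD, h, mul_mem n'.mem n.mem, fun a => m ?_⟩)
  exact (mul_mem_cancel_right (S.self_mem n.xD)).1 (a ▸ (S.nw_symm n).mem)

theorem exists_opp (n : NW D Q z x) : ∃ y w, Opp D y w ∧ Good D Q y w x ∧ pr y w x = z := by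
  have h := S.toLF
  have n' := h.nw_symm n
  obtain ⟨w, nw, cw⟩ := S.exists_nc n
  obtain ⟨y, ny, cy⟩ := S.exists_nc n'
  have xz := h.nw_comm n
  have e1 := h.nw_conj_of_not_comm n nw.mem cw
  have e2 := h.nw_conj_of_not_comm n' ny.mem cy
  have e3 : y * x * y⁻¹ = x := by rw [h.nw_comm ny, mul_inv_cancel_right]
  have e4 : w * z * w⁻¹ = z := by rw [h.nw_comm nw, mul_inv_cancel_right]
  have ww := h.sq nw.xD
  have yy := h.sq ny.xD
  have r1 : w * y * x * (w * y)⁻¹ = x * z := by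
    calc _ = w * (y * x * y⁻¹) * w⁻¹ := by group
      _ = _ := by rw [e3, e1]
  have r2 : w * y * z * (w * y)⁻¹ = x := by
    calc _ = w * (y * z * y⁻¹) * w⁻¹ := by group
      _ = x := by rw [e2, ← conj_mul, e1, e4, xz, can (h.sq n.zD)]
  have r3 : w * y * (x * z) * (w * y)⁻¹ = z := by
    rw [← conj_mul, r1, r2, xz, mul_assoc, h.sq n.xD, mul_one]
  have m : (w * y) ^ 3 ∈ Q (x * z) := by
    have a := h.mem_conj n.xD w ny.mem
    have b := h.mem_conj n.zD y nw.mem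
    rw [e1, inv2 ww] at a
    rw [e2, ← xz, inv2 yy] at b
    have := mul_mem a b
    convert this using 1
    simp only [pow_succ, pow_zero, one_mul, mul_assoc]
  have m4 : ((w * y) ^ 3) ^ 4 = 1 := (h.lx (h.nw_third n).xD).toES.pow_four m
  obtain ⟨u, hu⟩ : ∃ u, u = w * y * (w * y) * y * (w * y * (w * y))⁻¹ := ⟨_, rfl⟩
  have uD : u ∈ D := hu ▸ h.conj ny.xD _
  have uu := h.sq uD
  have uz : u ∈ Q z := by
    have := h.mem_conj n.xD (w * y * (w * y)) ny.mem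
    rwa [← hu, show w * y * (w * y) * x * (w * y * (w * y))⁻¹ =
      w * y * (w * y * x * (w * y)⁻¹) * (w * y)⁻¹ by group, r1, r3] at this
  have ux : u * x ≠ x * u := fun e => cy (by
    rw [hu, ← r2, ← r3, show w * y * (w * y * (x * z) * (w * y)⁻¹) * (w * y)⁻¹ =
      w * y * (w * y) * (x * z) * (w * y * (w * y))⁻¹ by group, conj_mul, conj_mul, mul_left_inj,
      mul_right_inj, ← mul_assoc, h.nw_comm ny, mul_assoc, mul_assoc, mul_right_inj] at e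
    exact e)
  have e5 := h.nw_conj_of_not_comm n uz ux
  have e6 : u * z * u⁻¹ = z := by rw [(h.lx n.zD).z_comm u uz, mul_inv_cancel_right]
  have uy : u * y = (w * y) ^ 4 := by
    rw [hu]; simp only [mul_inv_rev, inv2 ww, inv2 yy, mul_assoc, can yy, pow_succ, pow_zero, one_mul]
  have br : y * u * y = u * y * u := by
    have : (u * y) ^ 3 = 1 := by rw [uy, ← pow_mul, mul_comm, pow_mul, m4]
    rw [← inv_inj, eq_comm, inv_eq_iff_mul_eq_one, ← this]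
    simp only [mul_inv_rev, inv2 uu, inv2 yy, mul_assoc, pow_succ, pow_zero, one_mul]
  have p1 : pr y u x = z := by
    calc _ = y * (u * (y * x * y⁻¹) * u⁻¹) * y⁻¹ := by rw [pr]; group
      _ = z := by rw [e3, e5, ← conj_mul, e3, e2, ← xz, can (h.sq n.xD)]
  refine ⟨y, u, ⟨ny.xD, uD, yy, uu, br, fun e => h.ne_one n.xD ?_⟩, ⟨h.nw_symm ny, ?_, ?_⟩, p1⟩
  · rw [pr, e, mul_assoc u, yy, mul_one, e5] at p1
    simpa using p1
  · rw [p1, ← e5, inv2 uu]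
  · rw [p1]; exact n'.mem

theorem exists_F (g : Good D Q y w x) (o : Opp D y w) (s1 : s ∈ Q x) (s2 : s * y = y * s) :
    ∃ f ∈ Q x, f ∈ Q (pr y w x) ∧ f * y = y * f ∧ f * w = w * f ∧ s⁻¹ * f ∈ Q y := by
  have h := S.toLF
  have n' := g.nw' h o
  obtain ⟨e, e1, e2, f, f1, f2, rfl⟩ := S.split (h.nw_symm g.toNW) (g.nwx h o) (g.ne_left h o).symm s1
  have ez := (h.lx g.zD).z_comm e e2
  have fz : f * y = y * f := by
    rw [mul_assoc, ← mul_assoc y, ← ez, mul_assoc, mul_left_cancel_iff] at s2; exact s2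
  have k : (e * f)⁻¹ * f ∈ Q y := by
    rw [mul_inv_rev]; exact (h.lx g.zD).norm' fz (inv_mem e2)
  rcases (h.lx n'.xD).toES.conj_cases f2 (h.nw_symm n').mem with a | a
  · exact ⟨f, f1, f2, fz, (mul_inv_eq_iff_eq_mul.1 a).symm, k⟩
  · refine ⟨f * x, mul_mem f1 (h.self_mem g.xD), mul_mem f2 (h.nw_symm (g.nwx h o)).mem,
      Commute.mul_left fz (h.nw_comm g.toNW), ?_, by rw [← mul_assoc]; exact mul_mem k g.mem⟩
    rw [eq_comm, ← mul_inv_eq_iff_eq_mul, ← conj_mul, a, inv2 o.sq', g.rel, ← g.comm h, mul_assoc,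
      can (h.sq n'.xD)]

theorem fix_comm (C : Ch ϱ q Q H d κ p) (n : NW D Q x d) (n' : NW D Q x y) (m : y ∉ Q d) (hy : y ∈ H d)
    (ha : a ∈ Q d) (e : ϱ (p y) (κ a) = κ a) : y * a * y⁻¹ = a := by
  rw [← C.conj hy ha, C.κ_eq_iff (C.norm hy ha) ha] at e
  refine e.resolve_right fun k => S.not_mem n n' (C.comm hy) m ?_
  have := S.conj n'.xD a⁻¹
  rwa [inv_inv, mul_assoc, mul_inv_eq_iff_eq_mul.1 k, mul_assoc, inv_mul_cancel_left, ← C.comm hy] at this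

theorem core (g : Good D Q y w x) (o : Opp D y w) (hz : pr y w x = z) (C : Ch ϱ q Q H z κ p) (e1 : κ x = vd 1)
    (e2 : κ w = vd 524288) (u1 : u ∈ Q x) (u2 : u ∈ Q y) (u3 : u * z = z * u) {i : ℕ} (hi : i ∈ ps)
    (tp : p u = t i) : Good D Q y w u ∧ NW D Q z (pr y w u) ∧ κ (pr y w u) = ϱ (t i) (κ w) + κ w := by
  have L := S.toLF
  have zw : NW D Q z w := L.nw_symm (hz ▸ g.nw' L o)
  have xz : NW D Q x z := hz ▸ g.nwx L o
  have zx := L.nw_symm xz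
  have xy := L.nw_symm g.toNW
  have cw := g.ne_right L o
  have cy : y * z ≠ z * y := hz ▸ g.ne_left L o
  have r1 : w * x * w = x * z := hz ▸ g.rel
  have r2 : y * z * y = z * x := hz ▸ g.rel' L o
  have hz' : pr y w z = x := hz ▸ o.pr_pr x
  have uu : u * u = 1 := L.nw_sq xy u1 u2
  have uy := (L.lx o.zD).z_comm _ u2
  have uH := (C.mem_H S zx e1 u1 u3).1
  have uz : u ∉ Q z := fun k => S.md.t_ne (ps_lt hi) (tp ▸ (C.ker S uH).2 k)
  obtain ⟨⟨i, ω, j⟩, hω, rfl⟩ := List.mem_map.1 (chk_G.1 ▸ hi)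
  have ck := lall_iff.1 chk_G.2.1 _ hω
  simp only [an_iff, lmem_iff, beq_iff, blt_iff] at ck tp hi ⊢
  have c1 : u * w * u⁻¹ * w⁻¹ ∈ Q z := mul_mem (C.norm uH zw.mem) (inv_mem zw.mem)
  have kc : κ (u * w * u⁻¹ * w⁻¹) = ϱ (t i) (κ w) + κ w := by
    rw [C.κ_mul (C.norm uH zw.mem) (inv_mem zw.mem), C.κ_inv zw.mem, C.conj uH zw.mem, tp]
  have kc' : ϱ (t i) (κ w) + κ w = ϱ (wd t ω) (vd 1) := by
    rw [e2, S.md.ac1 (ps_lt hi), ← vd_xor, S.md.wa ck.1, ck.2.2.2.1]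
  rw [inv2 uu, inv2 o.sq'] at kc c1
  have c2 := (C.mem_iff' S zw e2 c1).2 (by
    rw [kc, kc', S.md.wa ck.1, S.md.wa chk_g0.2.1]; exact vd_mem ck.2.2.2.2)
  have c3 := C.nw_of_ob S zw c1 ⟨_, kc.trans kc'⟩
  have t1 : pr y w u ∈ Q w := by simpa only [o.pr_left] using pr_mem (z := y) (z' := w) L o.zD u2
  have t2 : pr y w u ∈ Q z := by simpa only [hz] using pr_mem (z := y) (z' := w) L g.xD u1
  have t3 : pr y w u * x = x * pr y w u := by rw [← hz', ← pr_mul, ← pr_mul, u3]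
  have t4 : y * pr y w u * y = u * (u * w * u * w) := by
    rw [o.pr_eq, mul_assoc (y * w) y u, ← uy]
    simp only [mul_assoc, can o.sq, can uu, o.sq, mul_one]
  have t5 : (pr y w u)⁻¹ * (u * w * u * w) ∈ Q x := by
    have a := mul_mem ((L.lx g.xD).norm' t3 xy.mem) xy.mem
    have b := (L.lx g.xD).norm' t3 u1
    have e : (pr y w u)⁻¹ * y * pr y w u * y = (pr y w u)⁻¹ * (u * (u * w * u * w)) := by
      rw [← t4]; group
    rw [e] at a
    convert mul_mem (inv_mem b) a using 1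
    group
  have e : u * w * u * w = pr y w u := by
    rcases S.disj zw zx cw.symm (mul_mem (inv_mem t2) c1) (mul_mem (inv_mem t1) c2) t5 with e | e
    · exact (inv_mul_eq_one.1 e).symm
    · rw [inv_mul_eq_iff_eq_mul] at e
      rw [e] at t4
      have k : y * (y * pr y w u * y) * y = u * (y * pr y w u * y) * (y * z * y) := by
        nth_rewrite 1 [t4]
        simp only [mul_assoc, can o.sq]
        rw [← mul_assoc y, ← uy, mul_assoc]
      rw [t4, r2] at k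
      nth_rewrite 1 [← t4] at k
      simp only [mul_assoc, can o.sq, can uu, o.sq, mul_one, can (L.sq zw.zD), left_eq_mul] at k
      exact absurd k (L.ne_one g.xD)
  rw [e] at kc c3
  have uD : u ∈ D := by simpa only [show _ * _ * _ = _ from o.pr_pr u] using L.conj c3.xD (y * w * y)
  have rel : w * u * w = u * pr y w u := by rw [← e]; simp only [mul_assoc, can uu]
  refine ⟨⟨⟨o.zD, uD, u2, fun k => cy (k ▸ u3)⟩, rel, L.mem_symm c3.xD uD ?_⟩, c3, kc⟩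
  generalize pr y w u = c at *
  have xu : NW D Q x u := ⟨g.xD, uD, u1, fun k => uz (k ▸ zx.mem)⟩
  obtain ⟨κ', p', C', k1, k2⟩ := C.re S zx.zD (wd t ω)
  have k3 : κ' c = vd 1 := (ϱ _).injective ((k1 c t2).symm.trans (kc.trans kc'))
  obtain ⟨s, s1, s2, s3⟩ := C'.exists_s S c3 k3 (mem_BG t ck.2.1)
  have s4 : p' s = p' u := by
    have := k2 u uH
    rw [tp, ← ck.2.2.1, (S.md.R.act_spec (okW_iff.1 ck.1) (ps_lt ck.2.1)).2] at this
    simpa [s3] using this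
  refine (mul_mem_cancel_left (inv_mem s1)).1 (C'.mem_of_comm S c3 k3 ((C'.eq_iff S s2 uH).1 s4) fun b b1 b2 => ?_)
  suffices k : u * b * u⁻¹ = s * b * s⁻¹ by
    rw [mul_assoc, mul_inv_eq_iff_eq_mul.1 k]; group
  have k4 := C'.conj s2 b1
  rcases (L.lx c3.xD).toES.conj_cases b2 s1 with k | k <;> rw [k] at k4 ⊢
  · exact S.fix_comm C' xz xu uz uH b1 (s4 ▸ k4.symm)
  have cw' : c * w = w * c := (L.lx o.zD').z_comm c t1
  have k5 : u * w * u⁻¹ = w * c := by rw [inv2 uu, ← cw', ← e, mul_assoc _ w w, o.sq', mul_one]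
  have := S.fix_comm C' xz xu uz uH (mul_mem b1 zw.mem) (by
    rw [C'.κ_mul b1 zw.mem, map_add, ← C'.conj uH zw.mem, k5, ← s4, ← k4, C'.κ_mul b1 t2, C'.κ_mul zw.mem t2,
      add_add_add_comm, v2_add_self, add_zero])
  rw [← conj_mul, k5, ← cw', ← mul_assoc, mul_left_inj, ← eq_mul_inv_iff_mul_eq, inv2 (L.sq c3.xD)] at this
  exact this

end St

end CL.E6U.V6
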