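import Cfsg.Agent.PERM.E3.RGeo

/-!
Copy of `SPOR/E6U/Lam` for an index dividing six.
The centraliser of an opposite pair covers `U₆(2)`.
-/

set_option autoImplicit false
set_option maxRecDepth 100000
set_option exponentiation.threshold 512
set_option linter.unusedSectionVars false

namespace CL.E6U.V6

open CL.LE CL.LX CL.MSS CL.TTU CL.TTU.U6 CL.FiRec CL.PM CL.F2M CL.D42 QuadraticMap
open CL.K hiding lall lall_iff lany lany_iff

attribute [local irreducible] mu ac MT I20 M JN ol inO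

variable {X : Type*} [Group X] {E : Set X} {t : ℕ → X} {ϱ : X →* (V ≃ₗ[ZMod 2] V)}
  {q : QuadraticForm (ZMod 2) V} {G : Type*} [Group G] [Finite G] {D : Set G} {Q H : G → Subgroup G}
  {d x y z w u a b s : G} {κ κ' : G → V} {p p' : G → X}

namespace St

variable (S : St E t ϱ q D Q H)
include S

theorem family (g : Good D Q y w x) (o : Opp D y w) (hz : pr y w x = z) (C : Ch ϱ q Q H z κ p) : ∃ k : X,
    (∀ u ∈ Q x, u ∈ Q y → u ∈ H z → ∀ i ∈ ps, p u = k * t i * k⁻¹ → Good D Q y w u) ∧ ∃ u : ℕ → G, ∀ i ∈ ps,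
      u i ∈ Q x ∧ u i ∈ Q y ∧ u i ∈ H z ∧ p (u i) = k * t i * k⁻¹ ∧ u i ∉ Q z ∧
      ∀ j ∈ ps, (u i)⁻¹ * u j ∈ Q z → i = j := by
  have L := S.toLF
  have xz : NW D Q x z := hz ▸ g.nwx L o
  have zx := L.nw_symm xz
  obtain ⟨κ1, p1, g1, C1, e1, -, k1⟩ := C.std S zx
  obtain ⟨κ, p, g2, C, e1, e2, -, k2⟩ := C1.std2 S zx e1 (L.nw_symm (hz ▸ g.nw' L o)) (g.ne_right L o)
  have k : ∀ i, ∃ u, i ∈ ps → u ∈ Q x ∧ u ∈ Q y ∧ u ∈ H z ∧ p u = t i := fun i => by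
    by_cases hi : i ∈ ps
    · obtain ⟨s, s1, s2, s3⟩ := C.exists_s S zx e1 (mem_BG t hi)
      obtain ⟨e, -, a, f, f1, f2, rfl⟩ := S.split xz (L.nw_symm g.toNW) (hz ▸ g.ne_left L o) s1
      have m := (mul_mem_cancel_left (C.QH a)).1 s2
      exact ⟨f, fun _ => ⟨f1, f2, m, by rw [← s3, C.p_mul S a m]⟩⟩
    · exact ⟨1, fun h => absurd h hi⟩
  choose u hu using k
  refine ⟨g1 * g2, fun u u1 u2 u3 i hi tp => (S.core g o hz C e1 e2 u1 u2 (C.comm u3) hi ?_).1, u, fun i hi => ?_⟩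
  · rw [k1 u u3, k2 u u3, cj_cj] at tp
    simpa using tp
  obtain ⟨u1, u2, u3, u4⟩ := hu i hi
  exact ⟨u1, u2, u3, by rw [k1 _ u3, k2 _ u3, cj_cj, u4], fun k => S.md.t_ne (ps_lt hi) (u4 ▸ (C.ker S u3).2 k),
    fun j hj k => S.md.R.inj (ps_lt hi) (ps_lt hj) (by
      rw [← u4, ← (hu j hj).2.2.2, C.eq_iff S u3 (hu j hj).2.2.1]; exact k)⟩

/-- a member of `D` at distance two acts as a transvection -/
theorem mem_E (C : Ch ϱ q Q H z κ p) (n : NW D Q x z) (n' : NW D Q x a) (c : a * z = z * a) (m : a ∉ Q z) :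
    a ∈ H z ∧ p a ∈ E := by
  have L := S.toLF
  obtain ⟨y, w, o, g, hz⟩ := S.exists_opp (L.nw_symm n)
  obtain ⟨k0, h1, u, hu⟩ := S.family g o hz C
  obtain ⟨κx, px, Cx, e⟩ := S.std n
  have k : ∀ i, ∃ c, i ∈ ps → c < 2 ^ 20 ∧ κx (u i) = vd c ∧ c / 2 ^ 10 ∈ CS := fun i => by
    by_cases hi : i ∈ ps
    · obtain ⟨u1, u2, u3, u4, u5, -⟩ := hu i hi
      obtain ⟨c, c1, c2, c3, -⟩ := Cx.mid S n e ⟨n.zD, (h1 _ u1 u2 u3 i hi u4).xD, u1,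
        fun k => u5 (k ▸ (L.nw_symm n).mem)⟩ (C.comm u3) u5
      exact ⟨c, fun _ => ⟨c1, c2, c3⟩⟩
    · exact ⟨0, fun h => absurd h hi⟩
  choose f hf using k
  have k : ∀ i ∈ ps, ∀ b ∈ Q x, ∀ c < 2 ^ 20, κx b = vd c → f i / 2 ^ 10 = c / 2 ^ 10 → (u i)⁻¹ * b ∈ Q z :=
    fun i hi b hb c c1 c2 k => by
      rw [Cx.mem_iff S n e (mul_mem (inv_mem (hu i hi).1) hb), Cx.κ_mul (inv_mem (hu i hi).1) hb,
        Cx.κ_inv (hu i hi).1, (hf i hi).2.1, c2, add_mem_F (hf i hi).1 c1 (by decide), k]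
  obtain ⟨c, c1, c2, c3, -⟩ := Cx.mid S n e n' c m
  obtain ⟨i, hi, k1⟩ := pigeon (f := fun i => f i / 2 ^ 10) (fun i hi => (hf i hi).2.2) (fun i hi j hj e =>
    (hu i hi).2.2.2.2.2 j hj (k i hi _ (hu j hj).1 _ (hf j hj).1 (hf j hj).2.1 e)) c3
  have k2 := k i hi a n'.mem c c1 c2 k1
  obtain ⟨u1, u2, u3, u4, u5, -⟩ := hu i hi
  have aH := (mul_mem_cancel_left (inv_mem u3)).1 (C.QH k2)
  exact ⟨aH, (C.eq_iff S u3 aH).2 k2 ▸ u4 ▸ S.md.cj_mem k0 (S.md.R.mem (ps_lt hi))⟩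

variable (g : Good D Q y w x) (o : Opp D y w) (C : Ch ϱ q Q H y κ p)
include g o C

theorem new (e : κ x = vd 1) {c : ℕ} (hc : c < 1024) (ho : Ob ϱ (vd c)) : ∃ u, Good D Q y w u ∧ κ u = vd c := by
  have L := S.toLF
  have xz := g.nwx L o
  have cy := g.ne_left L o
  obtain ⟨κz, pz, Cz⟩ := S.ch xz.xD
  obtain ⟨k0, h1, u, hu⟩ := S.family g o rfl Cz
  generalize pr y w x = z at *
  have zx := (L.nw_symm xz).mem
  have k1 : ∀ a ∈ Q y, a * z = z * a → κ a ∈ F 1 → a ∈ Q z := fun a ha c k => by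
    rcases mem_F1 k with k | k
    · rcases (C.κ_zero ha).1 k with rfl | rfl
      exacts [one_mem _, absurd c cy]
    · rcases (C.κ_eq_iff ha g.mem).1 (k.trans e.symm) with rfl | rfl
      exacts [zx, absurd (by rwa [mul_assoc, ← mul_assoc z, ← Cz.comm (Cz.QH zx), mul_assoc, mul_right_inj] at c) cy]
  have k2 : ∀ c < 1024, Ob ϱ (vd c) → c = 1 ∨ c / 2 ∈ CS := fun c hc ho => by
    obtain ⟨i, hi, rfl⟩ := S.md.inO_of (by omega) ho
    exact (ol_spec hi).2.2.2.1 hc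
  have k : ∀ i, ∃ c, i ∈ ps → c < 2 ^ 20 ∧ κ (u i) = vd c ∧ c / 2 ^ 1 ∈ CS := fun i => by
    by_cases hi : i ∈ ps
    · obtain ⟨u1, u2, u3, u4, u5, -⟩ := hu i hi
      obtain ⟨c, c1, c2⟩ := (C.mem_iff S g.toNW e u2).1 u1
      exact ⟨c, fun _ => ⟨by omega, c2, (k2 c c1 (c2 ▸ C.ob S (h1 _ u1 u2 u3 i hi u4).toNW)).resolve_left
        fun k => u5 (k1 _ u2 (Cz.comm u3) (by rw [c2, k]; exact vd_mem (by decide)))⟩⟩
    · exact ⟨0, fun h => absurd h hi⟩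
  choose f hf using k
  rcases k2 c hc ho with rfl | c3
  · exact ⟨x, g, e⟩
  obtain ⟨i, hi, k3⟩ := pigeon (f := fun i => f i / 2 ^ 1) (fun i hi => (hf i hi).2.2) (fun i hi j hj e =>
    (hu i hi).2.2.2.2.2 j hj (k1 _ (mul_mem (inv_mem (hu i hi).2.1) (hu j hj).2.1)
      (Cz.comm (mul_mem (inv_mem (hu i hi).2.2.1) (hu j hj).2.2.1)) (by
      rw [C.κ_mul (inv_mem (hu i hi).2.1) (hu j hj).2.1, C.κ_inv (hu i hi).2.1, (hf i hi).2.1, (hf j hj).2.1,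
        add_mem_F (hf i hi).1 (hf j hj).1 (by decide), e]))) c3
  obtain ⟨u1, u2, u3, u4, -⟩ := hu i hi
  rcases mem_F1 ((add_mem_F (m := 1) (hf i hi).1 (by omega) (by decide)).2 k3) with k | k
  · exact ⟨_, h1 _ u1 u2 u3 i hi u4, (hf i hi).2.1.trans (v2_add_eq_zero.1 k)⟩
  · refine ⟨x * u i, h1 _ (mul_mem (L.self_mem g.xD) u1) (mul_mem g.mem u2) (mul_mem (Cz.QH zx) u3) i hi
      ((Cz.p_mul S zx u3).trans u4), ?_⟩
    rw [C.κ_mul g.mem u2, e, ← k, (hf i hi).2.1, add_right_comm, v2_add_self, zero_add]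

theorem exists_B {k j : X} (e : κ x = ϱ k (vd 1)) (hj : j ∈ BG t) :
    ∃ f ∈ Q x, f ∈ Q (pr y w x) ∧ f ∈ H y ∧ f * w = w * f ∧ p f = k * j * k⁻¹ := by
  obtain ⟨κ', p', C', k1, k2⟩ := C.re S o.zD k
  obtain ⟨s, s1, s2, s3⟩ := C'.exists_s S g.toNW ((ϱ k).injective ((k1 x g.mem).symm.trans e)) hj
  obtain ⟨f, f1, f2, -, f4, f5⟩ := S.exists_F g o s1 (C.comm s2)
  have m := (mul_mem_cancel_left (inv_mem s2)).1 (C.QH f5)
  exact ⟨f, f1, f2, m, f4, by rw [← (C.eq_iff S s2 m).2 f5, k2 s s2, s3]⟩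

theorem cov (k : X) : ∃ l ∈ H y, l * w = w * l ∧ p l = k := by
  obtain ⟨κ', p', k0, C', e, -, k2⟩ := C.std S g.toNW
  suffices h : ∀ k, ∃ l ∈ H y, l * w = w * l ∧ p' l = k by
    obtain ⟨l, l1, l2, l3⟩ := h (k0⁻¹ * k * k0)
    exact ⟨l, l1, l2, by rw [k2 l l1, l3]; group⟩
  have m : ∀ a b : X, (∃ l ∈ H y, l * w = w * l ∧ p' l = a) → (∃ l ∈ H y, l * w = w * l ∧ p' l = b) →
      ∃ l ∈ H y, l * w = w * l ∧ p' l = a * b := by
    rintro _ _ ⟨a, a1, a2, rfl⟩ ⟨b, b1, b2, rfl⟩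
    exact ⟨_, mul_mem a1 b1, Commute.mul_left a2 b2, C'.mul a1 b1⟩
  have k1 : ∀ i ∈ [32, 6, 5, 9, 421, 29, 19], i < 693 ∧ ∃ l ∈ H y, l * w = w * l ∧ p' l = t i := fun i hi => by
    obtain ⟨⟨i, ω, j⟩, hω, rfl⟩ := List.mem_map.1 (chk_G.2.2.1 ▸ hi)
    have ck := lall_iff.1 chk_G.2.2.2.1 _ hω
    simp only [an_iff, lmem_iff, beq_iff, blt_iff] at ck ⊢
    obtain ⟨u, gu, e'⟩ := S.new g o C' e ck.2.2.2 ⟨_, (S.md.wa ck.1 1).symm⟩
    obtain ⟨f, -, -, f3, f4, f5⟩ := S.exists_B gu o C' (e'.trans (S.md.wa ck.1 1).symm) (mem_BG t ck.2.1)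
    have := S.md.R.act_spec (okW_iff.1 ck.1) (ps_lt ck.2.1)
    rw [ck.2.2.1] at this
    exact ⟨this.1, f, f3, f4, f5.trans this.2.symm⟩
  have k3 : ∀ i < 693, ∃ l ∈ H y, l * w = w * l ∧ p' l = t i := fun i hi => (covers_spec c_all5
    (Q := fun c => c < 693 ∧ ∃ l ∈ H y, l * w = w * l ∧ p' l = t c) (k1 5 (by decide)) (by
      rintro _ hw c ⟨a, b⟩
      obtain ⟨s, hs, rfl⟩ := List.mem_map.1 hw
      obtain ⟨s1, s2⟩ := k1 s hs
      rw [act_cons, act_nil, S.md.R.hop s s1 c a]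
      exact ⟨S.md.R.lt s s1 c a, m _ _ (m _ _ s2 b) s2⟩) i hi rfl).2
  exact S.md.ind ⟨1, one_mem _, by simp, C'.one⟩ m fun s hs => k3 s ((by decide : ∀ s ∈ G7, s < 693) s hs)

theorem lift (n : NW D Q y a) : ∃ u, Good D Q y w u ∧ κ u = κ a := by
  obtain ⟨k, e⟩ := C.ob S g.toNW
  obtain ⟨k', e'⟩ := C.ob S n
  obtain ⟨l, l1, l2, l3⟩ := S.cov g o C (k' * k⁻¹)
  exact ⟨_, g.conj S.toLF (C.comm l1) l2, by rw [C.conj l1 g.mem, l3, σ_mul, e, σ_inv, e']⟩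

theorem uniq (g' : Good D Q y w u) (e : κ u = κ x) : u = x := g.uniq S.toLF o C.choose_spec.toFr g' e

theorem fix (l1 : a ∈ H y) (l2 : a * w = w * a) (e : ϱ (p a) (κ x) = κ x) : a * x = x * a :=
  mul_inv_eq_iff_eq_mul.1 (S.uniq g o C (g.conj S.toLF (C.comm l1) l2) ((C.conj l1 g.mem).trans e))

theorem eq_one (c1 : a ∈ Q y) (c2 : a * w = w * a) : a = 1 := by
  refine (S.cent_of g.toNW c1 fun b n => ?_).resolve_right fun e => o.ne (e ▸ c2)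
  obtain ⟨u, g', e⟩ := S.lift g o C n
  rw [C.comm_iff c1 n.mem, ← e, ← C.comm_iff c1 g'.mem]
  exact S.fix g' o C (C.QH c1) c2 (by rw [(C.ker S (C.QH c1)).2 c1, σ_one])

theorem exists_lam : ∃ f : X →* G, (∀ k, f k ∈ H y ∧ f k * w = w * f k ∧ p (f k) = k) ∧
    ∀ a ∈ H y, a * w = w * a → f (p a) = a := by
  choose f f1 f2 f3 using S.cov g o C
  have k : ∀ a ∈ H y, a * w = w * a → f (p a) = a := fun a a1 a2 => inv_mul_eq_one.1
    (S.eq_one g o C ((C.eq_iff S (f1 _) a1).1 (f3 _)) (Commute.mul_left (Commute.inv_left (f2 _)) a2))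
  exact ⟨MonoidHom.mk' f fun a b => by
    rw [← k _ (mul_mem (f1 a) (f1 b)) (Commute.mul_left (f2 a) (f2 b)), C.mul (f1 a) (f1 b), f3, f3],
    fun k => ⟨f1 k, f2 k, f3 k⟩, k⟩

theorem side (gs : Good D Q y w s) (e1 : κ s = vd 1) (e2 : κ x = vd 524288) (a1 : a ∈ Q s) (a2 : a ∈ Q (pr y w s))
    (a3 : a * w = w * a) (aH : a ∈ H y) {i : ℕ} (hi : i ∈ ps) (a4 : p a = t i) (b1 : b ∈ Q x)
    (b2 : b ∈ Q (pr y w x)) (b3 : b * w = w * b) (bH : b ∈ H y)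
    (b4 : ϱ (p b) (ϱ (t i) (κ x) + κ x) = ϱ (t i) (κ x)) :
    a ∈ D ∧ ∃ c : G, c * c = 1 ∧ a * c = c * a ∧ c * x = x * c ∧ a * x * a = x * c ∧
      c * b * c = b * x ∧ pr y w s * c * pr y w s = c * a := by
  have L := S.toLF
  obtain ⟨o2, g2, k1, k2⟩ := opp2 L o g gs fun c => absurd (lt_of_mem (by decide) (by decide)
    (e2 ▸ (C.com_iff S gs.toNW e1 g.mem).1 c)) (by decide)
  obtain ⟨g3, nc, kc⟩ := S.core g2 o2 k1 C e1 e2 a1 a2 (C.comm aH) hi a4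
  have aa := L.sq g3.xD
  have bb : b * b = 1 := L.nw_sq (g.nwx L o) b1 b2
  have cp : pr (pr y w s) x a * x = x * pr (pr y w s) x a := (L.lx g.xD).z_comm _ (by
    simpa only [o2.pr_left] using pr_mem (z := pr y w s) (z' := x) L o2.zD a2)
  have cp' : pr (pr y w s) x a * pr y w x = pr y w x * pr (pr y w s) x a := by
    rw [← k2, ← pr_mul, ← pr_mul, a3]
  have r1 := g3.rel
  have r2 := g3.rel' L o2
  have ca := g3.comm L
  generalize pr (pr y w s) x a = u at *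
  have pp := L.sq g.xD
  have r3 : a * x * a⁻¹ = u * x := by
    rw [inv2 aa, ← can aa u, ← r1]; simp only [mul_assoc, pp, mul_one]
  have g4 := g.conj L (C.comm aH) a3
  have gu : Good D Q y w u := by
    obtain ⟨u', g5, k⟩ := S.lift g o C nc
    rcases (C.κ_eq_iff g5.mem nc.mem).1 k with rfl | rfl
    · exact g5
    refine (o.not_mul L nc ?_ g5.rel).elim
    have k1 := congrArg (pr y w) cp'
    rw [pr_mul, pr_mul, o.pr_pr] at k1
    have k2 := g4.rel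
    rw [r3, pr_mul, show w * (u * x) * w = w * u * w * (w * x * w) by
      simp only [mul_assoc, can o.sq'], g.rel, ← mul_assoc, ← mul_assoc, mul_left_inj, mul_assoc u x,
      ← k1, ← mul_assoc, mul_left_inj] at k2
    exact k2
  have r4 := S.uniq g4 o C (gu.conj L (C.comm bH) b3) (by rw [C.conj bH nc.mem, C.conj aH g.mem, kc, a4, b4])
  have uu := L.sq nc.xD
  refine ⟨g3.xD, u, uu, ca.symm, cp, by rw [← cp, ← r3, inv2 aa], ?_, r2⟩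
  rw [r3, inv2 bb] at r4
  rw [(L.lx g.xD).z_comm _ b1, ← can uu x, ← r4]
  simp only [mul_assoc, bb, mul_one]

theorem hex (gs : Good D Q y w s) (e1 : κ s = vd 1) (e2 : κ x = vd 524288) (a1 : a ∈ Q s) (a2 : a ∈ Q (pr y w s))
    (a3 : a * w = w * a) (aH : a ∈ H y) {i j : ℕ} (hi : i ∈ ps) (a4 : p a = t i) (b1 : b ∈ Q x)
    (b2 : b ∈ Q (pr y w x)) (b3 : b * w = w * b) (bH : b ∈ H y) (hj : j ∈ ps) (b4 : p b = t (act op g0 j))
    (c1 : ac (MT (act op g0 j)) (ac (MT i) 524288 ^^^ 524288) = ac (MT i) 524288)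
    (c2 : ac (MT (act op g0 i)) (ac (MT j) 524288 ^^^ 524288) = ac (MT j) 524288) (c3 : act op g0 (act op g0 i) = i) :
    a ∈ D ∧ ∃ k : ZMod 6 → G, Hex k ∧ k 0 = a ∧ k 3 = b ∧ k 2 = x ∧ k 5 = pr y w s := by
  have L := S.toLF
  have sp := fun {i} => S.md.R.act_spec (okW_iff.1 chk_g0.2.1) (x := i)
  obtain ⟨aD, u, u1, u2, u3, u4, u5, u6⟩ := S.side g o C gs e1 e2 a1 a2 a3 aH hi a4 b1 b2 b3 bH (by
    rw [b4, e2, S.md.ac1 (ps_lt hi), ← vd_xor, S.md.ac1 (sp (ps_lt hj)).1, c1])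
  obtain ⟨κ', p', C', k1, k2⟩ := C.swap S o.zD
  have e3 : κ' s = vd 524288 := by rw [k1 s gs.mem, e1, S.md.g0_one]
  obtain ⟨bD, v, v1, v2, v3, v4, v5, v6⟩ := S.side gs o C' g (by rw [k1 x g.mem, e2, ← S.md.g0_one, S.md.g0_sq])
    e3 b1 b2 b3 bH hj (by simpa [b4, (sp (ps_lt hj)).2] using (k2 b bH).symm) a1 a2 a3 aH (by
    have : p' a = t (act op g0 i) := by
      have := k2 a aH
      rw [a4, ← c3, (sp (sp (ps_lt hi)).1).2] at this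
      simpa using this.symm
    rw [this, e3, S.md.ac1 (ps_lt hj), ← vd_xor, S.md.ac1 (sp (ps_lt hi)).1, c2])
  have pa := pr_fix (C.comm aH) a3
  have pb := pr_fix (C.comm bH) b3
  replace v1 := congrArg (pr y w) v1
  replace v2 := congrArg (pr y w) v2
  replace v3 := congrArg (pr y w) v3
  replace v4 := congrArg (pr y w) v4
  replace v5 := congrArg (pr y w) v5
  replace v6 := congrArg (pr y w) v6
  simp only [pr_mul, pa, pb, o.pr_pr, show pr y w 1 = 1 by simp [pr]] at v1 v2 v3 v4 v5 v6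
  refine ⟨aD, ![a, u, x, b, pr y w v, pr y w s], ⟨fun k => ?_, fun k => ?_, fun k => ?_⟩, rfl, rfl, rfl, rfl⟩
  · fin_cases k
    exacts [L.sq aD, u1, L.sq g.xD, L.sq bD, v1, L.sq (gs.nw' L o).xD]
  · fin_cases k
    exacts [u2, u3, ((L.lx g.xD).z_comm _ b1).symm, v2, v3, ((L.lx (gs.nw' L o).xD).z_comm _ a2).symm]
  · fin_cases k
    exacts [u4, u5, v6, v4, v5, u6]

end St

end CL.E6U.V6
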