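import Cfsg.Agent.PERM.E3.RLam
import Cfsg.Agent.PERM.E3.RFix

/-!
Copy of `SPOR/E6U/Main` for an index dividing six.
The subgroup generated by the neighbouring centralisers is `²E₆(2)`.
-/

set_option autoImplicit false
set_option maxRecDepth 100000
set_option exponentiation.threshold 512
set_option linter.unusedSectionVars false

namespace CL.E6U.V6

open CL.LE CL.LX CL.MSS CL.TTU CL.TTU.U6 CL.FiRec CL.PM CL.F2M CL.D42 CL.CE QuadraticMap Cfsg.Lie
open CL.K hiding lall lall_iff lany lany_iff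

attribute [local irreducible] mu ac MT I20 M JN ol inO

variable {X : Type*} [Group X] {E : Set X} {t : ℕ → X} {ϱ : X →* (V ≃ₗ[ZMod 2] V)}
  {q : QuadraticForm (ZMod 2) V} {G : Type*} [Group G] [Finite G] {D : Set G} {Q H : G → Subgroup G}
  {z x y w : G}

theorem exists_good (S : St E t ϱ q D Q H) (n : NW D Q z x) : ∃ w x, Opp D z w ∧ Good D Q z w x := by
  obtain ⟨y, w, o, g, -⟩ := S.exists_opp n
  obtain ⟨k, rfl⟩ := S.trans o.zD n.zD
  have e : pr (k * y * k⁻¹) (k * w * k⁻¹) (k * x * k⁻¹) = k * pr y w x * k⁻¹ := by simp only [pr]; group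
  exact ⟨k * w * k⁻¹, k * x * k⁻¹, ⟨n.zD, S.conj o.zD' k, S.sq n.zD, S.sq (S.conj o.zD' k), by
    simp only [conj_mul, o.br], by simpa only [conj_mul, Ne, mul_left_inj, mul_right_inj] using o.ne⟩,
    S.nw_conj g.toNW k, by simp only [e, conj_mul, g.rel], e ▸ S.mem_conj g.xD k g.col⟩

theorem St.main (S : St E t ϱ q D Q H) (n : NW D Q z x) {K : Type*} [Field K] [Fintype K]
    (hK : Fintype.card K = 4) : ∃ φ : twistedE6 K 2 →* G, Function.Injective φ ∧ H z ≤ φ.range ∧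
      φ.range ≤ H z ⊔ ⨆ (y : G) (_ : NW D Q z y), H y ∧
      ∀ d ∈ D, d ∈ φ.range → ∃ k ∈ φ.range, k * z * k⁻¹ = d := by
  have L := S.toLF
  obtain ⟨c1, c2, c3, ⟨c4, c5, c6, c7⟩, c8, c9, c10, c11, c12⟩ := chk_gw
  obtain ⟨w, x, o, g0⟩ := exists_good S n
  obtain ⟨κ, p, C⟩ := S.ch n.zD
  have k : ∀ v, Ob ϱ v → ∃ u, Good D Q z w u ∧ κ u = v := fun v hv => by
    obtain ⟨a, ha, rfl⟩ := C.κ_surj v
    exact S.lift g0 o C (C.nw_of_ob S n ha hv)
  obtain ⟨s, gs, e1⟩ := k _ ⟨1, (σ_one ..).symm⟩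
  obtain ⟨y, gy, e2⟩ := k _ ⟨_, S.md.g0_one.symm⟩
  obtain ⟨f, f1, f2⟩ := S.exists_lam g0 o C
  have fs : ∀ i ∈ ps, f (t i) ∈ Q s ∧ f (t i) ∈ Q (pr z w s) := fun i hi => by
    obtain ⟨a, a1, a2, a3, a4, a5⟩ := S.exists_B gs o C (k := 1) (e1.trans (σ_one ..).symm) (mem_BG t hi)
    rw [one_mul, inv_one, mul_one] at a5
    rw [← a5, f2 a a3 a4]; exact ⟨a1, a2⟩
  have fy : f (t 32) ∈ Q y ∧ f (t 32) ∈ Q (pr z w y) := by
    obtain ⟨a, a1, a2, a3, a4, a5⟩ := S.exists_B gy o C (e2.trans S.md.g0_one.symm) (mem_BG t (p := 0) (by decide))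
    rw [← (S.md.R.act_spec (okW_iff.1 chk_g0.2.1) (by decide)).2, c10] at a5
    rw [← a5, f2 a a3 a4]; exact ⟨a1, a2⟩
  obtain ⟨aD, hx⟩ := S.hex gy o C gs e1 e2 (fs 0 (by decide)).1 (fs 0 (by decide)).2 (f1 _).2.1 (f1 _).1 (i := 0)
    (j := 0) (by decide) (f1 _).2.2 fy.1 fy.2 (f1 _).2.1 (f1 _).1 (by decide) (c10 ▸ (f1 _).2.2) (c10 ▸ c12)
    (c10 ▸ c12) (by rw [c10, c11])
  obtain ⟨o2, -, e3, -⟩ := opp2 L o gy gs fun c => absurd (lt_of_mem (by decide) (by decide)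
    (e2 ▸ (C.com_iff S gs.toNW e1 gy.mem).1 c)) (by decide)
  let g : ℕ → G := fun i => if i = 0 then y else if i = 1 then pr z w s else f (wd t (gw i))
  have gi : ∀ i, 2 ≤ i → g i = f (wd t (gw i)) := fun i hi => (if_neg (by omega)).trans (if_neg (by omega))
  have ge : ∀ r : List ℕ, lall (Nat.ble 2) r = true → ev g r = f (wd t (ex r)) := fun r hr => by
    induction r with
    | nil => exact (map_one f).symm
    | cons i r ih => rw [ev_cons, ih (an_iff.1 hr).2, gi i (ble_iff.1 (an_iff.1 hr).1), ← map_mul, ← wd_append]; rfl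
  have ck := fun i hi => an_iff.1 (allLt_iff.1 c1 i hi)
  have ok : ∀ i < 16, okW (gw i) = true := fun i hi => okW_iff.2 fun a ha =>
    okW_iff.1 (an_iff.1 (ck i hi).1).1 a (List.mem_append_left _ ha)
  obtain ⟨M, hM⟩ : ∃ M, M = Subgroup.closure (g '' Set.Iio 16) := ⟨_, rfl⟩
  have gM : ∀ i < 16, g i ∈ M := fun i hi => hM ▸ Subgroup.subset_closure ⟨i, hi, rfl⟩
  have yM : y ∈ M := gM 0 (by decide)
  have sM : pr z w s ∈ M := gM 1 (by decide)
  have fM : ∀ k, f k ∈ M := S.md.ind (by simp) (fun a b ha hb => map_mul f a b ▸ mul_mem ha hb) fun i hi =>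
    (covers_spec c2 (Q := fun c => c < 693 ∧ f (t c) ∈ M) ⟨by decide, wd_one t 0 ▸ gM 2 (by decide)⟩ (by
      rintro _ hw c ⟨a, b⟩
      obtain ⟨j, hj, rfl⟩ := List.mem_map.1 hw
      rw [List.mem_range] at hj
      obtain ⟨b1, b2⟩ := S.md.R.act_spec (okW_iff.1 (ok j hj)) a
      have m : f (wd t (gw j)) ∈ M := by
        rcases (by omega : j = 0 ∨ j = 1 ∨ 2 ≤ j) with rfl | rfl | h
        exacts [map_one f ▸ one_mem _, map_one f ▸ one_mem _, gi j h ▸ gM j hj]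
      exact ⟨b1, by rw [b2, map_mul, map_mul, map_inv]; exact mul_mem (mul_mem m b) (inv_mem m)⟩) i
      ((by decide : ∀ s ∈ G7, s < 693) i hi) rfl).2
  have tr : ∀ a, NW D Q z a → ∃ k, f k * y * (f k)⁻¹ = a ∨ f k * y * (f k)⁻¹ = a * z := fun a n' => by
    obtain ⟨k, e⟩ := C.ob S gy.toNW
    obtain ⟨k', e'⟩ := C.ob S n'
    exact ⟨k' * k⁻¹, (C.κ_eq_iff (C.norm (f1 _).1 gy.mem) n'.mem).1 (by
      rw [C.conj (f1 _).1 gy.mem, (f1 _).2.2, σ_mul, e, σ_inv, e'])⟩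
  have QM : Q z ≤ M := S.Q_le_of n fun a n' => by
    obtain ⟨k, e⟩ := tr a n'
    have := mul_mem (mul_mem (fM k) yM) (inv_mem (fM k))
    exact e.imp (fun e => by rwa [← e]) fun e => by rwa [← e]
  have es : f (wd t (ex lw)) * y * (f (wd t (ex lw)))⁻¹ = s :=
    S.uniq gs o C (gy.conj L (C.comm (f1 _).1) (f1 _).2.1) (by
      rw [C.conj (f1 _).1 gy.mem, (f1 _).2.2, e2, S.md.wa c5, c6, e1])
  have ez : ev g zw = z := by
    rw [zw, ev_append, ev_append, ev_append, ev_append, ge lw (by decide), ge lw.reverse (by decide), ev_singleton,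
      eq_inv_of_mul_eq_one_left ((wd_append ..).symm.trans (S.md.rel c4)), map_inv, mul_assoc (ev g n1),
      mul_assoc (ev g n1), show g 0 = y from rfl, es, ← e3, o2.pr_eq, o2.br]
    simp [n1, ev, g, mul_assoc]
  obtain ⟨N, NM, eN⟩ : ∃ N ∈ M, N * y * N⁻¹ = z := ⟨_, mul_mem (mul_mem (mul_mem sM yM) sM) (fM (wd t (ex lw))), by
    rw [← cj_cj, es]; exact e3⟩
  obtain ⟨φ, h1, h2⟩ := tct hK (g := g) (fun i hi => by
      rcases (by omega : i = 0 ∨ i = 1 ∨ 2 ≤ i) with rfl | rfl | h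
      exacts [o2.sq', o2.sq, by rw [gi i h, ← map_mul, ← wd_append, S.md.rel (ck i hi).1, map_one]])
    (by simpa [g, gw, wd_one] using hx) o2.br.symm (fun i hi j h4 hj => by
      have c := an_iff.1 ((ou_iff.1 (ck j hj).2).resolve_left (by rw [blt_iff]; omega))
      rw [gi j (by omega)]
      rcases (by omega : i = 0 ∨ i = 1) with rfl | rfl
      · exact (S.fix gy o C (f1 _).1 (f1 _).2.1 (by rw [(f1 _).2.2, e2, S.md.wa (ok j hj), beq_iff.1 c.2])).symm
      · have := congrArg (pr z w) (S.fix gs o C (f1 (wd t (gw j))).1 (f1 _).2.1 (by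
          rw [(f1 _).2.2, e1, S.md.wa (ok j hj), beq_iff.1 c.1]))
        rw [pr_mul, pr_mul, pr_fix (C.comm (f1 _).1) (f1 _).2.1] at this
        exact this.symm)
    (fun r hr => by
      have c := an_iff.1 (lall_iff.1 c3 r hr)
      rw [ge r c.1, S.md.rel c.2, map_one])
    (fun k _ hk => by
      rw [← hM] at hk
      refine ((L.lx n.zD).self_cent k fun a ha => ?_).resolve_right fun e => gs.ne_left L o ?_
      · exact (Subgroup.mem_centralizer_singleton_iff.1 (S.Q_le_of n (K := Subgroup.centralizer {k}) (fun a n' => by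
          obtain ⟨l, e⟩ := tr a n'
          have := Subgroup.mem_centralizer_singleton_iff.2 (hk _ (fM l)).symm
          exact e.imp (fun e => by rwa [← e]) fun e => by rwa [← e]) ha)).symm
      · have := hk _ (mul_mem yM sM)
        rwa [e, show g 0 = y from rfl, ← o2.br, mul_inv_rev, inv2 o2.sq, inv2 o2.sq', mul_assoc _ _ (_ * y),
          can o2.sq, mul_assoc, o2.sq', mul_one] at this)
  rw [← hM] at h1
  have := (Cfsg.Agent.S1070.result (K := K) (q := 2) Nat.prime_two.isPrimePow hK).1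
  have inj : Function.Injective φ := (φ.normal_ker.eq_bot_or_eq_top.resolve_right fun e => by
    obtain ⟨a, ha⟩ := h1.ge yM
    exact L.ne_one gy.xD (ha ▸ e.ge (Subgroup.mem_top a))) |> φ.ker_eq_bot_iff.1
  refine ⟨φ, inj, fun c hc => h1.ge ((mul_mem_cancel_left (inv_mem (fM (p c)))).1
    (QM ((C.eq_iff S (f1 _).1 hc).1 (f1 _).2.2))), ?_, ?_⟩
  · rw [h1, hM, Subgroup.closure_le]
    rintro _ ⟨i, -, rfl⟩
    rcases (by omega : i = 0 ∨ i = 1 ∨ 2 ≤ i) with rfl | rfl | h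
    · exact Subgroup.mem_sup_left (C.QH gy.mem)
    · obtain ⟨κ', p', C'⟩ := S.ch gs.xD
      exact Subgroup.mem_sup_right (le_iSup₂_of_le (f := fun y (_ : NW D Q z y) => H y) s gs.toNW le_rfl (C'.QH gs.col))
    · exact gi i h ▸ Subgroup.mem_sup_left (f1 _).1
  rintro _ hd ⟨u, rfl⟩
  obtain ⟨c, hc⟩ := h2 u ((orderOf_injective φ inj u).symm.trans (L.lx hd).toES.orderOf_z)
  have m := L.conj hd (φ c)
  rw [← map_inv, ← map_mul, ← map_mul] at m
  have ns := L.nw_symm gs.toNW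
  have a0 : f (t 0) ∉ Q z := fun k => S.md.t_ne (by decide) ((f1 _).2.2 ▸ (C.ker S (f1 _).1).2 k)
  rcases hc with e | e | e
  · refine ⟨(φ c)⁻¹ * N⁻¹, mul_mem (inv_mem ⟨c, rfl⟩) (h1.ge (inv_mem NM)), ?_⟩
    rw [← eN, ← show _ = y from e, map_mul, map_mul, map_inv]; group
  · rw [e, ev_append, ez, ev_singleton, show g 2 = f (wd t [0]) from rfl, wd_one, ← C.comm (f1 _).1] at m
    exact absurd m (S.not_mem ns ⟨gs.xD, aD, (fs 0 (by decide)).1, fun k => a0 (k ▸ gs.mem)⟩ (C.comm (f1 _).1) a0)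
  rw [e, List.append_assoc, List.append_assoc, ev_append, ev_append, ez, ← List.append_assoc, ge (_ ++ _) (by decide),
    S.md.eqv c7, ev_singleton, show g 2 = f (wd t [0]) from rfl, wd_one, wd_one, mul_assoc, ← map_mul] at m
  have zz := L.self_mem n.zD
  have cn : ∀ w : List ℕ, (∀ s ∈ w, s < 693) → wd t w = 1 → cenW w = true := fun w hw e =>
    (cenW_iff S.md.R hw).2 fun x _ => e ▸ Commute.one_left x
  have mH := mul_mem (C.QH zz) (f1 (t 0 * t 5)).1
  have pe := (C.p_mul S zz (f1 (t 0 * t 5)).1).trans (f1 _).2.2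
  have a1 : z * f (t 0 * t 5) ∉ Q z := fun k => Bool.false_ne_true (c8 ▸ cn [0, 5] (by decide) (by
    simpa [wd] using pe.symm.trans ((C.ker S mH).2 k)))
  obtain ⟨i, hi, e⟩ := S.md.R.surj (pe ▸ (S.mem_E C ns ⟨gs.xD, m, mul_mem ns.mem (map_mul f _ _ ▸
    mul_mem (fs 0 (by decide)).1 (fs 5 (by decide)).1), fun k => a1 (k ▸ gs.mem)⟩ (C.comm mH) a1).2)
  refine absurd (cn [0, 5, i] (by simpa using hi) ?_) (no_iff.1 (allLt_iff.1 c9 i hi))
  simpa [wd, ← mul_assoc, ← e] using S.md.R.fs.sq (S.md.R.mem hi)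

theorem St.exists_fix (S : St E t ϱ q D Q H) (n : NW D Q z x) (h1 : y * y = 1) (h2 : y * z = z * y) :
    ∃ v, NW D Q z v ∧ y * v = v * y := S.exists_fix' n h1 h2

end CL.E6U.V6
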